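import Mathlib.AlgebraicGeometry.Cover.Open
import Mathlib.AlgebraicGeometry.AffineScheme
import Mathlib.AlgebraicGeometry.Gluing
import Mathlib.AlgebraicGeometry.Morphisms.UnderlyingMap

/-!
# Spectra of fibre products of rings along surjections are pushouts
-/

universe u

open CategoryTheory CategoryTheory.Limits AlgebraicGeometry TopologicalSpace

namespace Groth.Agent.FerrandPushout

variable {A A' B B' : Type u} [CommRing A] [CommRing A'] [CommRing B] [CommRing B']

/-- A cartesian square of rings with `p` surjective. -/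
structure Cart (p : A' →+* A) (q : B →+* A) (u : B' →+* B) (v : B' →+* A') : Prop where
  surj : Function.Surjective p
  comm : ∀ x, q (u x) = p (v x)
  ext : ∀ x, u x = 0 → v x = 0 → x = 0
  exists_lift : ∀ b a, q b = p a → ∃ x, u x = b ∧ v x = a

variable {p : A' →+* A} {q : B →+* A} {u : B' →+* B} {v : B' →+* A'}

theorem Cart.ext' (c : Cart p q u v) {x y : B'} (h1 : u x = u y) (h2 : v x = v y) : x = y :=
  sub_eq_zero.1 (c.ext _ (by rw [map_sub, h1, sub_self]) (by rw [map_sub, h2, sub_self]))

theorem Cart.surj_fst (c : Cart p q u v) : Function.Surjective u := fun b => by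
  obtain ⟨a, ha⟩ := c.surj (q b)
  obtain ⟨x, hx, -⟩ := c.exists_lift b a ha.symm
  exact ⟨x, hx⟩

theorem Cart.jointly_surjective (c : Cart p q u v) (P : PrimeSpectrum B') :
    (∃ Q, PrimeSpectrum.comap u Q = P) ∨
      ∃ Q, PrimeSpectrum.comap v Q = P ∧ ∃ j, u j = 0 ∧ j ∉ P.asIdeal ∧ v j ∉ Q.asIdeal := by
  by_cases hk : RingHom.ker u ≤ P.asIdeal
  · left
    haveI := Ideal.map_isPrime_of_surjective c.surj_fst hk
    refine ⟨⟨P.asIdeal.map u, inferInstance⟩, PrimeSpectrum.ext ?_⟩
    change (P.asIdeal.map u).comap u = P.asIdeal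
    rw [Ideal.comap_map_of_surjective _ c.surj_fst]
    exact sup_eq_left.2 hk
  right
  obtain ⟨j, hj, hjP⟩ := SetLike.not_le_iff_exists.1 hk
  rw [RingHom.mem_ker] at hj
  have hx : ∀ a, ∃ x, u x = 0 ∧ v x = v j * a := fun a => c.exists_lift 0 (v j * a) (by
    rw [map_zero, map_mul, ← c.comm, hj, map_zero, zero_mul])
  choose x hx0 hxv using hx
  have hx1 : ∀ y, x (v y) = j * y := fun y =>
    c.ext' (by rw [hx0, map_mul, hj, zero_mul]) (by rw [hxv, map_mul])
  let Q : Ideal A' :=
    { carrier := {a | x a ∈ P.asIdeal}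
      zero_mem' := by
        change x 0 ∈ P.asIdeal
        rw [← map_zero v, hx1, mul_zero]; exact zero_mem _
      add_mem' := fun {a b} ha hb => by
        change x (a + b) ∈ P.asIdeal
        rw [show x (a + b) = x a + x b from c.ext' (by simp [hx0]) (by simp [hxv, mul_add])]
        exact add_mem ha hb
      smul_mem' := fun r a ha => by
        change x (r * a) ∈ P.asIdeal
        refine (P.isPrime.mem_or_mem (x := j) ?_).resolve_left hjP
        rw [show j * x (r * a) = x r * x a from c.ext' (by simp [hx0, hj])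
          (by simp only [hxv, map_mul]; ring)]
        exact Ideal.mul_mem_left _ _ ha }
  have hQ : Q.IsPrime := by
    refine ⟨fun h => ?_, fun {a b} hab => ?_⟩
    · have h1 : x 1 ∈ P.asIdeal := (Ideal.eq_top_iff_one Q).1 h
      rw [← map_one v, hx1, mul_one] at h1
      exact hjP h1
    · refine P.isPrime.mem_or_mem ?_
      rw [show x a * x b = j * x (a * b) from c.ext' (by simp [hx0, hj])
          (by simp only [hxv, map_mul]; ring)]
      exact Ideal.mul_mem_left _ _ hab
  refine ⟨⟨Q, hQ⟩, PrimeSpectrum.ext (Ideal.ext fun y => ?_), j, hj, hjP, fun h => ?_⟩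
  · change x (v y) ∈ P.asIdeal ↔ y ∈ P.asIdeal
    rw [hx1]
    exact ⟨fun h => (P.isPrime.mem_or_mem h).resolve_left hjP, Ideal.mul_mem_left _ _⟩
  · change x (v j) ∈ P.asIdeal at h
    rw [hx1] at h
    exact hjP ((P.isPrime.mem_or_mem h).elim id id)

section Loc

variable (p q u v) (b : B')

/-- The map `A'_{v b} → A_{p v b}`. -/
noncomputable abbrev pLoc : Localization.Away (v b) →+* Localization.Away (p (v b)) :=
  IsLocalization.Away.map (Localization.Away (v b)) (Localization.Away (p (v b))) p (v b)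

variable {p q u v} in
theorem Cart.isUnit_q (c : Cart p q u v) :
    IsUnit (((algebraMap A (Localization.Away (p (v b)))).comp q) (u b)) := by
  rw [RingHom.comp_apply, c.comm]
  exact IsLocalization.Away.algebraMap_isUnit _

/-- The map `B_{u b} → A_{q u b}`. -/
noncomputable abbrev qLoc (c : Cart p q u v) : Localization.Away (u b) →+* Localization.Away (p (v b)) :=
  IsLocalization.Away.lift (u b) (c.isUnit_q b)

variable {p q u v}

theorem Cart.loc (c : Cart p q u v) :
    Cart (pLoc p v b) (qLoc p q u v b c) (Localization.awayMap u b) (Localization.awayMap v b) := by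
  have hp : ∀ a, pLoc p v b (algebraMap _ _ a) = algebraMap A _ (p a) := fun a => IsLocalization.map_eq _ a
  have hq : ∀ z, qLoc p q u v b c (algebraMap _ _ z) = algebraMap A _ (q z) := fun z =>
    IsLocalization.Away.lift_eq (u b) (c.isUnit_q b) z
  have hu : ∀ x, Localization.awayMap u b (algebraMap _ _ x) = algebraMap B _ (u x) := fun x =>
    IsLocalization.map_eq _ x
  have hv : ∀ x, Localization.awayMap v b (algebraMap _ _ x) = algebraMap A' _ (v x) := fun x =>
    IsLocalization.map_eq _ x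
  have hunit := IsLocalization.Away.algebraMap_isUnit (S := Localization.Away b) b
  refine ⟨fun z => ?_, fun z => ?_, fun z h1 h2 => ?_, fun y z hyz => ?_⟩
  · obtain ⟨n, a, hz⟩ := IsLocalization.Away.surj (p (v b)) z
    obtain ⟨a', rfl⟩ := c.surj a
    obtain ⟨e, he⟩ :=
      ((IsLocalization.Away.algebraMap_isUnit (S := Localization.Away (v b)) (v b)).pow n).exists_left_inv
    refine ⟨algebraMap _ _ a' * e,
      ((IsLocalization.Away.algebraMap_isUnit (S := Localization.Away (p (v b))) (p (v b))).pow n).mul_right_cancel ?_⟩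
    rw [hz, ← hp, ← hp, ← map_pow, ← map_mul, mul_assoc, he, mul_one]
  · have key : ∀ x, qLoc p q u v b c (Localization.awayMap u b (algebraMap _ _ x)) =
        pLoc p v b (Localization.awayMap v b (algebraMap _ _ x)) := fun x => by
      rw [hu, hv, hq, hp]; exact congrArg _ (c.comm x)
    obtain ⟨n, x, hz⟩ := IsLocalization.Away.surj b z
    rw [← map_pow] at hz
    refine ((((hunit.pow n).map (Localization.awayMap u b))).map (qLoc p q u v b c)).mul_right_cancel ?_
    rw [← map_pow, ← map_mul (qLoc p q u v b c), ← map_mul, hz, key, ← hz, map_mul, map_mul, key (b ^ n)]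
  · obtain ⟨n, x, hz⟩ := IsLocalization.Away.surj b z
    have h1' : algebraMap B (Localization.Away (u b)) (u x) = algebraMap B _ 0 := by
      rw [← hu, ← hz, map_mul, h1, zero_mul, map_zero]
    have h2' : algebraMap A' (Localization.Away (v b)) (v x) = algebraMap A' _ 0 := by
      rw [← hv, ← hz, map_mul, h2, zero_mul, map_zero]
    obtain ⟨m, hm⟩ := IsLocalization.Away.exists_of_eq (u b) h1'
    obtain ⟨m', hm'⟩ := IsLocalization.Away.exists_of_eq (v b) h2'
    rw [mul_zero] at hm hm'
    have hx : b ^ (m + m') * x = 0 := c.ext _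
      (by rw [map_mul, map_pow, pow_add, mul_comm (u b ^ m), mul_assoc, hm, mul_zero])
      (by rw [map_mul, map_pow, pow_add, mul_assoc, hm', mul_zero])
    refine (hunit.pow n).mul_left_eq_zero.1 ?_
    rw [hz]
    refine (hunit.pow (m + m')).mul_right_eq_zero.1 ?_
    rw [← map_pow, ← map_mul, hx, map_zero]
  · obtain ⟨n, y0, hy⟩ := IsLocalization.Away.surj (u b) y
    obtain ⟨n', z0, hz⟩ := IsLocalization.Away.surj (v b) z
    have h : algebraMap A (Localization.Away (p (v b))) (q y0 * p (v b) ^ n') =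
        algebraMap A _ (p z0 * p (v b) ^ n) := by
      rw [map_mul, map_mul, ← hq, ← hp z0, ← hy, ← hz, map_mul, map_mul, hyz, map_pow, map_pow,
        map_pow, map_pow, hq, hp, c.comm]
      ring
    obtain ⟨m, hm⟩ := IsLocalization.Away.exists_of_eq (p (v b)) h
    obtain ⟨x, hx1, hx2⟩ := c.exists_lift (u b ^ m * (y0 * u b ^ n')) (v b ^ m * (z0 * v b ^ n)) (by
      simp only [map_mul, map_pow, c.comm]
      exact hm)
    obtain ⟨e, he⟩ := (hunit.pow (m + n + n')).exists_left_inv
    refine ⟨algebraMap _ _ x * e, ?_, ?_⟩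
    · refine ((hunit.pow (m + n + n')).map (Localization.awayMap u b)).mul_right_cancel ?_
      rw [← map_mul, mul_assoc, he, mul_one, hu, hx1, map_pow, hu, map_mul, map_mul,
        ← hy, map_pow, map_pow]
      ring
    · refine ((hunit.pow (m + n + n')).map (Localization.awayMap v b)).mul_right_cancel ?_
      rw [← map_mul, mul_assoc, he, mul_one, hv, hx2, map_pow, hv, map_mul, map_mul,
        ← hz, map_pow, map_pow]
      ring

end Loc

variable {T : Scheme.{u}} (h : Spec (.of B) ⟶ T) (g : Spec (.of A') ⟶ T)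

variable (u v) in
/-- Both maps send the locus over `D(b)` into one affine open. -/
def Good (b : B') : Prop :=
  ∃ U : T.Opens, IsAffineOpen U ∧ (∀ Q : Spec (.of B), u b ∉ Q.asIdeal → h Q ∈ U) ∧
    ∀ Q : Spec (.of A'), v b ∉ Q.asIdeal → g Q ∈ U

theorem exists_notMem_subset {R : Type u} [CommRing R] (Q : Spec (.of R)) (W : (Spec (.of R)).Opens)
    (hQ : Q ∈ W) : ∃ r : R, r ∉ Q.asIdeal ∧ ∀ Q' : Spec (.of R), r ∉ Q'.asIdeal → Q' ∈ W := by
  obtain ⟨_, ⟨r, rfl⟩, hr, hrW⟩ :=
    PrimeSpectrum.isTopologicalBasis_basic_opens.exists_subset_of_mem_open hQ W.2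
  exact ⟨r, hr, fun Q' hQ' => hrW hQ'⟩

theorem span_good (c : Cart p q u v)
    (w : Spec.map (CommRingCat.ofHom p) ≫ g = Spec.map (CommRingCat.ofHom q) ≫ h) :
    Ideal.span {b | Good u v h g b} = ⊤ := by
  by_contra hne
  obtain ⟨M, hM, hle⟩ := Ideal.exists_le_maximal _ hne
  suffices ∃ b, Good u v h g b ∧ b ∉ M from by
    obtain ⟨b, hb, hbM⟩ := this
    exact hbM (hle (Ideal.subset_span hb))
  rcases c.jointly_surjective ⟨M, hM.isPrime⟩ with ⟨Q, hQ⟩ | ⟨Q, hQ, j, hj, hjM, hjQ⟩
  · obtain ⟨_, ⟨U, hU, rfl⟩, hQU, -⟩ :=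
      T.isBasis_affineOpens.exists_subset_of_mem_open (Set.mem_univ (h Q)) isOpen_univ
    obtain ⟨b0, hb0, hb0U⟩ := exists_notMem_subset Q (h ⁻¹ᵁ U) hQU
    obtain ⟨K, hK⟩ : ∃ K : Ideal A', ((g ⁻¹ᵁ U).carrier : Set (PrimeSpectrum A'))ᶜ =
        PrimeSpectrum.zeroLocus (K : Set A') :=
      (PrimeSpectrum.isClosed_iff_zeroLocus_ideal _).1 (g ⁻¹ᵁ U).2.isClosed_compl
    have hrad : q b0 ∈ (K.map p).radical := by
      rw [Ideal.radical_eq_sInf, Submodule.mem_sInf]
      rintro P ⟨hKP, hP⟩
      by_contra hbP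
      have h1 : (h (PrimeSpectrum.comap q ⟨P, hP⟩) : T) ∈ U := hb0U _ hbP
      have h2 : (g (PrimeSpectrum.comap p ⟨P, hP⟩) : T) = h (PrimeSpectrum.comap q ⟨P, hP⟩) :=
        congrArg (fun φ : Spec (.of A) ⟶ T => φ ⟨P, hP⟩) w
      have h3 : (PrimeSpectrum.comap p ⟨P, hP⟩) ∈
          ((g ⁻¹ᵁ U).carrier : Set (PrimeSpectrum A'))ᶜ := by
        rw [hK]
        exact (PrimeSpectrum.mem_zeroLocus _ _).2 fun a ha => Ideal.map_le_iff_le_comap.1 hKP ha
      exact h3 (show g (PrimeSpectrum.comap p ⟨P, hP⟩) ∈ U from h2 ▸ h1)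
    obtain ⟨n, hn⟩ := hrad
    obtain ⟨k, hk, hkn⟩ := (Ideal.mem_map_iff_of_surjective p c.surj).1
      (Ideal.mul_mem_right (q b0) _ hn)
    obtain ⟨x, hx1, hx2⟩ := c.exists_lift (b0 ^ n * b0) k (by rw [hkn, map_mul, map_pow])
    refine ⟨x, ⟨U, hU, fun Q' hQ' => hb0U Q' fun h' => hQ' ?_, fun Q' hQ' => ?_⟩, fun hxM => ?_⟩
    · rw [hx1]; exact Ideal.mul_mem_left _ _ h'
    · by_contra hc
      have h4 : (Q' : PrimeSpectrum A') ∈ PrimeSpectrum.zeroLocus (K : Set A') := hK ▸ hc
      rw [hx2] at hQ'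
      exact hQ' (h4 hk)
    · have h5 : u x ∈ Q.asIdeal := by
        have : x ∈ (PrimeSpectrum.comap u Q).asIdeal := by rw [hQ]; exact hxM
        exact this
      rw [hx1] at h5
      exact hb0 ((Q.isPrime.mem_or_mem h5).elim (Q.isPrime.mem_of_pow_mem n) id)
  · obtain ⟨_, ⟨U, hU, rfl⟩, hQU, -⟩ :=
      T.isBasis_affineOpens.exists_subset_of_mem_open (Set.mem_univ (g Q)) isOpen_univ
    obtain ⟨a, ha, haU⟩ := exists_notMem_subset Q (g ⁻¹ᵁ U) hQU
    obtain ⟨x, hx1, hx2⟩ := c.exists_lift 0 (v j * a)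
      (by rw [map_zero, map_mul, ← c.comm, hj, map_zero, zero_mul])
    refine ⟨x, ⟨U, hU, fun Q' hQ' => (hQ' (hx1 ▸ zero_mem _)).elim,
      fun Q' hQ' => haU Q' fun h' => hQ' ?_⟩, fun hxM => ?_⟩
    · rw [hx2]; exact Ideal.mul_mem_left _ _ h'
    · have h5 : v x ∈ Q.asIdeal := by
        have : x ∈ (PrimeSpectrum.comap v Q).asIdeal := by rw [hQ]; exact hxM
        exact this
      rw [hx2] at h5
      exact (Q.isPrime.mem_or_mem h5).elim hjQ ha

theorem exists_factor_affine {R : Type u} [CommRing R] {U : T.Opens} (hU : IsAffineOpen U)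
    (f : Spec (.of R) ⟶ T) (hf : ∀ Q, f Q ∈ U) :
    ∃ α : Γ(T, U) ⟶ .of R, Spec.map α ≫ hU.fromSpec = f := by
  have hr : Set.range f ⊆ Set.range hU.fromSpec := by
    rw [hU.range_fromSpec]; rintro _ ⟨Q, rfl⟩; exact hf Q
  exact ⟨Spec.preimage (IsOpenImmersion.lift hU.fromSpec f hr), by
    rw [Spec.map_preimage, IsOpenImmersion.lift_fac]⟩

theorem specMap_away_notMem {R : Type u} [CommRing R] (r : R) (Q : Spec (.of (Localization.Away r))) :
    r ∉ (Spec.map (CommRingCat.ofHom (algebraMap R (Localization.Away r))) Q).asIdeal := fun hc =>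
  Q.isPrime.ne_top (Ideal.eq_top_of_isUnit_mem _ hc (IsLocalization.Away.algebraMap_isUnit r))

theorem hom_ext (c : Cart p q u v) {φ ψ : Spec (.of B') ⟶ T}
    (h1 : Spec.map (CommRingCat.ofHom u) ≫ φ = Spec.map (CommRingCat.ofHom u) ≫ ψ)
    (h2 : Spec.map (CommRingCat.ofHom v) ≫ φ = Spec.map (CommRingCat.ofHom v) ≫ ψ) : φ = ψ := by
  let h := Spec.map (CommRingCat.ofHom u) ≫ φ
  let g := Spec.map (CommRingCat.ofHom v) ≫ φ
  have w : Spec.map (CommRingCat.ofHom p) ≫ g = Spec.map (CommRingCat.ofHom q) ≫ h := by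
    simp only [g, h, ← Category.assoc, ← Spec.map_comp, ← CommRingCat.ofHom_comp]
    rw [show p.comp v = q.comp u from RingHom.ext fun x => (c.comm x).symm]
  have hspan := span_good h g c w
  refine (Scheme.affineOpenCoverOfSpanRangeEqTop (R := .of B')
    (fun b : {b | Good u v h g b} => (b : B')) (by rwa [Subtype.range_coe])).openCover.hom_ext _ _ ?_
  rintro ⟨b, U, hU, hhU, hgU⟩
  change Spec.map (CommRingCat.ofHom (algebraMap B' (Localization.Away b))) ≫ φ =
    Spec.map (CommRingCat.ofHom (algebraMap B' (Localization.Away b))) ≫ ψ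
  have hmem : ∀ (χ : Spec (.of B') ⟶ T), Spec.map (CommRingCat.ofHom u) ≫ χ = h →
      Spec.map (CommRingCat.ofHom v) ≫ χ = g →
      ∀ Q, (Spec.map (CommRingCat.ofHom (algebraMap B' (Localization.Away b))) ≫ χ) Q ∈ U := by
    intro χ hχ1 hχ2 Q
    have hb := specMap_away_notMem b Q
    rw [Scheme.Hom.comp_apply]
    generalize Spec.map (CommRingCat.ofHom (algebraMap B' (Localization.Away b))) Q = P at hb ⊢
    rcases c.jointly_surjective P with ⟨Q', hQ'⟩ | ⟨Q', hQ', -⟩
    · subst hQ'
      have := hhU Q' hb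
      rwa [← hχ1] at this
    · subst hQ'
      have := hgU Q' hb
      rwa [← hχ2] at this
  obtain ⟨α, hα⟩ := exists_factor_affine hU _ (hmem φ rfl rfl)
  obtain ⟨β, hβ⟩ := exists_factor_affine hU _ (hmem ψ h1.symm h2.symm)
  have ec : α = β := by
    have eu : α ≫ CommRingCat.ofHom (Localization.awayMap u b) =
        β ≫ CommRingCat.ofHom (Localization.awayMap u b) := Spec.map_injective <| by
      rw [← cancel_mono hU.fromSpec, Spec.map_comp, Spec.map_comp, Category.assoc, Category.assoc, hα, hβ,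
        ← Spec.map_comp_assoc, ← Spec.map_comp_assoc, ← CommRingCat.ofHom_comp, Localization.awayMap,
        IsLocalization.Away.map, IsLocalization.map_comp, CommRingCat.ofHom_comp, Spec.map_comp_assoc,
        Spec.map_comp_assoc, h1]
    have ev : α ≫ CommRingCat.ofHom (Localization.awayMap v b) =
        β ≫ CommRingCat.ofHom (Localization.awayMap v b) := Spec.map_injective <| by
      rw [← cancel_mono hU.fromSpec, Spec.map_comp, Spec.map_comp, Category.assoc, Category.assoc, hα, hβ,
        ← Spec.map_comp_assoc, ← Spec.map_comp_assoc, ← CommRingCat.ofHom_comp, Localization.awayMap,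
        IsLocalization.Away.map, IsLocalization.map_comp, CommRingCat.ofHom_comp, Spec.map_comp_assoc,
        Spec.map_comp_assoc, h2]
    ext r
    exact (c.loc b).ext' (RingHom.congr_fun (congrArg CommRingCat.Hom.hom eu) r)
      (RingHom.congr_fun (congrArg CommRingCat.Hom.hom ev) r)
  rw [← hα, ← hβ, ec]

theorem exists_piece (c : Cart p q u v)
    (w : Spec.map (CommRingCat.ofHom p) ≫ g = Spec.map (CommRingCat.ofHom q) ≫ h)
    (b : B') (hb : Good u v h g b) :
    ∃ φ : Spec (.of (Localization.Away b)) ⟶ T,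
      Spec.map (CommRingCat.ofHom (Localization.awayMap u b)) ≫ φ =
        Spec.map (CommRingCat.ofHom (algebraMap B (Localization.Away (u b)))) ≫ h ∧
      Spec.map (CommRingCat.ofHom (Localization.awayMap v b)) ≫ φ =
        Spec.map (CommRingCat.ofHom (algebraMap A' (Localization.Away (v b)))) ≫ g := by
  obtain ⟨U, hU, hhU, hgU⟩ := hb
  obtain ⟨α, hα⟩ := exists_factor_affine hU
    (Spec.map (CommRingCat.ofHom (algebraMap B (Localization.Away (u b)))) ≫ h) fun Q =>
      hhU _ (specMap_away_notMem (u b) Q)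
  obtain ⟨β, hβ⟩ := exists_factor_affine hU
    (Spec.map (CommRingCat.ofHom (algebraMap A' (Localization.Away (v b)))) ≫ g) fun Q =>
      hgU _ (specMap_away_notMem (v b) Q)
  have e : α ≫ CommRingCat.ofHom (qLoc p q u v b c) = β ≫ CommRingCat.ofHom (pLoc p v b) :=
    Spec.map_injective <| by
      rw [← cancel_mono hU.fromSpec, Spec.map_comp, Spec.map_comp, Category.assoc, Category.assoc, hα, hβ,
        ← Spec.map_comp_assoc, ← Spec.map_comp_assoc, ← CommRingCat.ofHom_comp, ← CommRingCat.ofHom_comp,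
        qLoc, IsLocalization.Away.lift_comp, show (pLoc p v b).comp (algebraMap A' _) =
          (algebraMap A _).comp p from IsLocalization.map_comp _,
        CommRingCat.ofHom_comp q, CommRingCat.ofHom_comp p, Spec.map_comp_assoc, Spec.map_comp_assoc, w]
  choose γ hγ1 hγ2 using fun r : Γ(T, U) => (c.loc b).exists_lift (α.hom r) (β.hom r)
    (RingHom.congr_fun (congrArg CommRingCat.Hom.hom e) r)
  let γ' : Γ(T, U) →+* Localization.Away b :=
    { toFun := γ
      map_one' := (c.loc b).ext' (by rw [hγ1, map_one, map_one]) (by rw [hγ2, map_one, map_one])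
      map_mul' := fun r s => (c.loc b).ext' (by rw [hγ1, map_mul, map_mul, hγ1, hγ1])
        (by rw [hγ2, map_mul, map_mul, hγ2, hγ2])
      map_zero' := (c.loc b).ext' (by rw [hγ1, map_zero, map_zero]) (by rw [hγ2, map_zero, map_zero])
      map_add' := fun r s => (c.loc b).ext' (by rw [hγ1, map_add, map_add, hγ1, hγ1])
        (by rw [hγ2, map_add, map_add, hγ2, hγ2]) }
  refine ⟨Spec.map (CommRingCat.ofHom γ') ≫ hU.fromSpec, ?_, ?_⟩
  · rw [← hα, ← Spec.map_comp_assoc]
    congr 2
    ext r
    exact hγ1 r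
  · rw [← hβ, ← Spec.map_comp_assoc]
    congr 2
    ext r
    exact hγ2 r

theorem comp_piece {B₀ : Type u} [CommRing B₀] (u₀ : B' →+* B₀) (h₀ : Spec (.of B₀) ⟶ T)
    {b : B'} {φ : Spec (.of (Localization.Away b)) ⟶ T}
    (hφ : Spec.map (CommRingCat.ofHom (Localization.awayMap u₀ b)) ≫ φ =
      Spec.map (CommRingCat.ofHom (algebraMap B₀ (Localization.Away (u₀ b)))) ≫ h₀)
    {C : Type u} [CommRing C] (ρ : Localization.Away b →+* C) (σ : B₀ →+* C)
    (hρ : ρ.comp (algebraMap B' _) = σ.comp u₀) :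
    Spec.map (CommRingCat.ofHom ρ) ≫ φ = Spec.map (CommRingCat.ofHom σ) ≫ h₀ := by
  have hu : IsUnit (σ (u₀ b)) := by
    rw [← RingHom.comp_apply, ← hρ, RingHom.comp_apply]
    exact (IsLocalization.Away.algebraMap_isUnit b).map ρ
  have e : ρ = (IsLocalization.Away.lift (u₀ b) hu).comp (Localization.awayMap u₀ b) := by
    refine IsLocalization.ringHom_ext (Submonoid.powers b) ?_
    rw [RingHom.comp_assoc, Localization.awayMap, IsLocalization.Away.map, IsLocalization.map_comp,
      ← RingHom.comp_assoc, IsLocalization.Away.lift_comp, hρ]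
  rw [e, CommRingCat.ofHom_comp, Spec.map_comp_assoc, hφ, ← Spec.map_comp_assoc, ← CommRingCat.ofHom_comp,
    IsLocalization.Away.lift_comp]

theorem exists_desc (c : Cart p q u v)
    (w : Spec.map (CommRingCat.ofHom p) ≫ g = Spec.map (CommRingCat.ofHom q) ≫ h) :
    ∃ φ : Spec (.of B') ⟶ T, Spec.map (CommRingCat.ofHom u) ≫ φ = h ∧
      Spec.map (CommRingCat.ofHom v) ≫ φ = g := by
  have hspan := span_good h g c w
  choose φ hφu hφv using fun b : {b | Good u v h g b} => exists_piece h g c w b b.2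
  let 𝒰 := (Scheme.affineOpenCoverOfSpanRangeEqTop (R := .of B')
    (fun b : {b | Good u v h g b} => (b : B')) (by rwa [Subtype.range_coe])).openCover
  let ι (r : B') := Spec.map (CommRingCat.ofHom (algebraMap B' (Localization.Away r)))
  have hglue : ∀ i j : {b | Good u v h g b},
      pullback.fst (ι i) (ι j) ≫ φ i = pullback.snd (ι i) (ι j) ≫ φ j := by
    intro i j
    let ρi : Localization.Away (i : B') →+* Localization.Away ((i : B') * j) :=
      IsLocalization.Away.awayToAwayRight (S := Localization.Away (i : B')) (i : B') (j : B')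
    let ρj : Localization.Away (j : B') →+* Localization.Away ((i : B') * j) :=
      IsLocalization.Away.awayToAwayLeft (S := Localization.Away (j : B')) (j : B') (i : B')
    have hρi : ρi.comp (algebraMap B' _) = algebraMap B' _ :=
      IsLocalization.Away.lift_comp (i : B') _
    have hρj : ρj.comp (algebraMap B' _) = algebraMap B' _ :=
      IsLocalization.Away.lift_comp (j : B') _
    have hi : Spec.map (CommRingCat.ofHom ρi) ≫ ι i = ι (i * j) := by
      rw [← Spec.map_comp, ← CommRingCat.ofHom_comp, hρi]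
    have hj : Spec.map (CommRingCat.ofHom ρj) ≫ ι j = ι (i * j) := by
      rw [← Spec.map_comp, ← CommRingCat.ofHom_comp, hρj]
    let l := pullback.lift (f := ι i) (g := ι j) (Spec.map (CommRingCat.ofHom ρi))
      (Spec.map (CommRingCat.ofHom ρj)) (hi.trans hj.symm)
    have hι : ∀ r : B', IsOpenImmersion (ι r) := fun r => inferInstanceAs
      (IsOpenImmersion (Spec.map (CommRingCat.ofHom (algebraMap B' (Localization.Away r)))))
    haveI := hι i; haveI := hι j; haveI := hι (i * j)
    have hl : l ≫ pullback.fst (ι i) (ι j) ≫ ι i = ι (i * j) := by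
      rw [pullback.lift_fst_assoc, hi]
    haveI : IsOpenImmersion (l ≫ (pullback.fst (ι i) (ι j) ≫ ι i)) := by rw [hl]; infer_instance
    haveI : IsOpenImmersion l := IsOpenImmersion.of_comp l (pullback.fst (ι i) (ι j) ≫ ι i)
    haveI : Surjective l := ⟨fun z => by
      have hzi := specMap_away_notMem (i : B') (pullback.fst (ι i) (ι j) z)
      have hzj := specMap_away_notMem (j : B') (pullback.snd (ι i) (ι j) z)
      have e : ι i (pullback.fst (ι i) (ι j) z) = ι j (pullback.snd (ι i) (ι j) z) := by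
        rw [← Scheme.Hom.comp_apply, pullback.condition, Scheme.Hom.comp_apply]
      have hm : ι i (pullback.fst (ι i) (ι j) z) ∈ Set.range (ι ((i : B') * j)) := by
        refine (PrimeSpectrum.localization_away_comap_range (Localization.Away ((i : B') * j))
          ((i : B') * j)).ge (PrimeSpectrum.mem_basicOpen _ _ |>.2 fun hc => ?_)
        rcases (ι i (pullback.fst (ι i) (ι j) z)).isPrime.mem_or_mem hc with h1 | h1
        · exact hzi h1
        · exact hzj (e ▸ h1 :)
      obtain ⟨y, hy⟩ := hm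
      refine ⟨y, (pullback.fst (ι i) (ι j) ≫ ι i).isOpenEmbedding.injective ?_⟩
      rw [← Scheme.Hom.comp_apply, hl, hy, Scheme.Hom.comp_apply]⟩
    haveI : Epi l.base := (TopCat.epi_iff_surjective _).2 l.surjective
    haveI : IsIso l := IsOpenImmersion.isIso l
    rw [← cancel_epi l, pullback.lift_fst_assoc, pullback.lift_snd_assoc]
    refine hom_ext (c.loc ((i : B') * j)) ?_ ?_
    · rw [← Spec.map_comp_assoc, ← Spec.map_comp_assoc, ← CommRingCat.ofHom_comp, ← CommRingCat.ofHom_comp,
        comp_piece u h (hφu i) _ (algebraMap B (Localization.Away (u ((i : B') * j)))) (by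
          rw [RingHom.comp_assoc, hρi]; exact IsLocalization.map_comp _),
        comp_piece u h (hφu j) _ (algebraMap B (Localization.Away (u ((i : B') * j)))) (by
          rw [RingHom.comp_assoc, hρj]; exact IsLocalization.map_comp _)]
    · rw [← Spec.map_comp_assoc, ← Spec.map_comp_assoc, ← CommRingCat.ofHom_comp, ← CommRingCat.ofHom_comp,
        comp_piece v g (hφv i) _ (algebraMap A' (Localization.Away (v ((i : B') * j)))) (by
          rw [RingHom.comp_assoc, hρi]; exact IsLocalization.map_comp _),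
        comp_piece v g (hφv j) _ (algebraMap A' (Localization.Away (v ((i : B') * j)))) (by
          rw [RingHom.comp_assoc, hρj]; exact IsLocalization.map_comp _)]
  refine ⟨𝒰.glueMorphisms φ hglue, ?_, ?_⟩
  · refine (Scheme.affineOpenCoverOfSpanRangeEqTop (R := .of B)
      (fun b : {b | Good u v h g b} => u b) ?_).openCover.hom_ext _ _ ?_
    · rw [Set.range_comp' u, Subtype.range_coe, ← Ideal.map_span, hspan, Ideal.map_top]
    rintro ⟨b, hb⟩
    change Spec.map (CommRingCat.ofHom (algebraMap B (Localization.Away (u b)))) ≫ _ ≫ _ =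
      Spec.map (CommRingCat.ofHom (algebraMap B (Localization.Away (u b)))) ≫ h
    rw [← hφu ⟨b, hb⟩, ← Spec.map_comp_assoc, ← CommRingCat.ofHom_comp,
      show (algebraMap B (Localization.Away (u b))).comp u =
        (Localization.awayMap u b).comp (algebraMap B' (Localization.Away (b : B'))) from
        (IsLocalization.map_comp _).symm, CommRingCat.ofHom_comp, Spec.map_comp_assoc]
    exact congrArg _ (𝒰.ι_glueMorphisms φ hglue ⟨b, hb⟩)
  · refine (Scheme.affineOpenCoverOfSpanRangeEqTop (R := .of A')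
      (fun b : {b | Good u v h g b} => v b) ?_).openCover.hom_ext _ _ ?_
    · rw [Set.range_comp' v, Subtype.range_coe, ← Ideal.map_span, hspan, Ideal.map_top]
    rintro ⟨b, hb⟩
    change Spec.map (CommRingCat.ofHom (algebraMap A' (Localization.Away (v b)))) ≫ _ ≫ _ =
      Spec.map (CommRingCat.ofHom (algebraMap A' (Localization.Away (v b)))) ≫ g
    rw [← hφv ⟨b, hb⟩, ← Spec.map_comp_assoc, ← CommRingCat.ofHom_comp,
      show (algebraMap A' (Localization.Away (v b))).comp v =
        (Localization.awayMap v b).comp (algebraMap B' (Localization.Away (b : B'))) from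
        (IsLocalization.map_comp _).symm, CommRingCat.ofHom_comp, Spec.map_comp_assoc]
    exact congrArg _ (𝒰.ι_glueMorphisms φ hglue ⟨b, hb⟩)

end Groth.Agent.FerrandPushout
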